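import Cfsg.Agent.Lib.AltHall.Partition
import Mathlib.GroupTheory.Sylow
import Mathlib.NumberTheory.Padics.PadicVal.Basic
import Mathlib.Combinatorics.Pigeonhole

/-!
Alternating groups whose Sylow 3-subgroup lies in a unique maximal subgroup.
-/

set_option autoImplicit false

open Equiv Equiv.Perm MulAction CfsgLib.AltAut CfsgLib.AltHall
open scoped Pointwise

namespace CfsgLib.ThreeMinAlt

variable {Ω : Type*} [Fintype Ω] [DecidableEq Ω]

/-- Two proper overgroups of `P` in `A_n` generate a proper subgroup. -/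
def UniqueOver (P : Subgroup (Perm Ω)) : Prop :=
  ∀ K L : Subgroup (Perm Ω), P ≤ K → K ≤ alternatingGroup Ω → ¬ alternatingGroup Ω ≤ K →
    P ≤ L → L ≤ alternatingGroup Ω → ¬ alternatingGroup Ω ≤ L → ¬ alternatingGroup Ω ≤ K ⊔ L

theorem not_alt_le_stab (x : Ω) (h3 : 3 ≤ Fintype.card Ω) :
    ¬ alternatingGroup Ω ≤ stabilizer (Perm Ω) x ⊓ alternatingGroup Ω := by
  intro h
  obtain ⟨y, hy⟩ : ∃ y, y ≠ x := Fintype.exists_ne_of_one_lt_card (by omega) x
  obtain ⟨z, -, hz⟩ := Finset.exists_mem_notMem_of_card_lt_card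
    (lt_of_le_of_lt (Finset.card_le_two (a := x) (b := y))
      (by rw [Finset.card_univ]; omega : 2 < (Finset.univ : Finset Ω).card))
  simp only [Finset.mem_insert, Finset.mem_singleton, not_or] at hz
  have h1 := (h (cyc_isThreeCycle (Ne.symm hy) (Ne.symm hz.1) (Ne.symm hz.2)).mem_alternatingGroup).1
  have h2 : cyc x y z x = x := h1
  rw [cyc_apply_fst (Ne.symm hy) (Ne.symm hz.1)] at h2
  exact hy h2

theorem not_alt_le_setStab {s : Set Ω} {a b z : Ω} (ha : a ∈ s) (hb : b ∈ s) (hab : a ≠ b)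
    (hz : z ∉ s) : ¬ alternatingGroup Ω ≤ stabilizer (Perm Ω) s ⊓ alternatingGroup Ω := by
  intro h
  have haz : a ≠ z := fun e => hz (e ▸ ha)
  have hbz : b ≠ z := fun e => hz (e ▸ hb)
  have h1 := mem_stabilizer_set.1 (h (cyc_isThreeCycle hab haz hbz).mem_alternatingGroup).1 b
  rw [Perm.smul_def, cyc_apply_snd haz hbz] at h1
  exact hz (h1.2 hb)

theorem cyc_mem_setStab {s : Set Ω} {a b c : Ω} (ha : a ∈ s) (hb : b ∈ s) (hc : c ∈ s)
    (hab : a ≠ b) (hac : a ≠ c) (hbc : b ≠ c) :
    cyc a b c ∈ stabilizer (Perm Ω) s ⊓ alternatingGroup Ω := by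
  refine ⟨mem_stabilizer_set.2 fun x => ?_, (cyc_isThreeCycle hab hac hbc).mem_alternatingGroup⟩
  rw [Perm.smul_def]
  by_cases h1 : x = a
  · rw [h1, cyc_apply_fst hab hac]; simp [ha, hb]
  by_cases h2 : x = b
  · rw [h2, cyc_apply_snd hac hbc]; simp [hc, hb]
  by_cases h3 : x = c
  · rw [h3, cyc_apply_trd]; simp [ha, hc]
  rw [cyc_apply_other h1 h2 h3]

/-- A three-cycle moving points of two fibres of size three does not preserve the partition. -/
theorem cyc_not_mem_partStab {b : ℕ} {f : Ω → Fin b}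
    (hf : ∀ i : Fin b, Nat.card {x : Ω // f x = i} = 3)
    {u v w : Ω} (huv : u ≠ v) (huw : u ≠ w) (hvw : v ≠ w) (hne : f u ≠ f w) :
    cyc u v w ∉ partStab f := by
  intro h
  by_cases h1 : f u = f v
  · have := (h u v).1 h1
    rw [cyc_apply_fst huv huw, cyc_apply_snd huw hvw] at this
    exact hne (h1.trans this)
  obtain ⟨u', hu', hne'⟩ := exists_fiber_avoid hf (f u) {u} (by simp)
  have e1 : u' ≠ u := by simpa using hne'
  have e2 : u' ≠ v := fun e => h1 (by rw [← e, hu'])
  have e3 : u' ≠ w := fun e => hne (by rw [← e, hu'])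
  have := (h u' u).1 hu'
  rw [cyc_apply_other e1 e2 e3, cyc_apply_fst huv huw, hu'] at this
  exact h1 this

theorem smul_mem_orbit_iff_of_mem {P : Subgroup (Perm Ω)} {g : Perm Ω} (hg : g ∈ P) (y z : Ω) :
    g z ∈ orbit P y ↔ z ∈ orbit P y := by
  constructor <;> rintro ⟨h, hh⟩
  · refine ⟨⟨g, hg⟩⁻¹ * h, ?_⟩
    show (⟨g, hg⟩⁻¹ * h : P) • y = z
    rw [mul_smul, show h • y = g z from hh, inv_smul_eq_iff]
    rfl
  · refine ⟨⟨g, hg⟩ * h, ?_⟩
    show (⟨g, hg⟩ * h : P) • y = g z
    rw [mul_smul, show h • y = z from hh]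
    rfl

theorem fixed_unique {P : Subgroup (Perm Ω)} (hU : UniqueOver P) (hPA : P ≤ alternatingGroup Ω)
    (h4 : 4 ≤ Fintype.card Ω) {x y : Ω} (hx : ∀ g ∈ P, g x = x) (hy : ∀ g ∈ P, g y = y) :
    x = y := by
  by_contra hxy
  refine hU (stabilizer (Perm Ω) x ⊓ alternatingGroup Ω) (stabilizer (Perm Ω) y ⊓ alternatingGroup Ω)
    (fun g hg => ⟨hx g hg, hPA hg⟩) inf_le_right (not_alt_le_stab x (by omega))
    (fun g hg => ⟨hy g hg, hPA hg⟩) inf_le_right (not_alt_le_stab y (by omega)) ?_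
  obtain ⟨a, -, ha⟩ := Finset.exists_mem_notMem_of_card_lt_card
    (lt_of_le_of_lt (Finset.card_le_two (a := x) (b := y))
      (by rw [Finset.card_univ]; omega : 2 < (Finset.univ : Finset Ω).card))
  simp only [Finset.mem_insert, Finset.mem_singleton, not_or] at ha
  obtain ⟨b, -, hb⟩ := Finset.exists_mem_notMem_of_card_lt_card
    (lt_of_le_of_lt (Finset.card_le_three (a := x) (b := y) (c := a))
      (by rw [Finset.card_univ]; omega : 3 < (Finset.univ : Finset Ω).card))
  simp only [Finset.mem_insert, Finset.mem_singleton, not_or] at hb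
  refine cyc_mem_of_edge _ (Ne.symm hb.2.2) fun i hia hib => ?_
  have h3 := cyc_isThreeCycle (Ne.symm hb.2.2) (Ne.symm hia) (Ne.symm hib)
  by_cases hix : i = x
  · refine Subgroup.mem_sup_right ⟨?_, h3.mem_alternatingGroup⟩
    show cyc a b i y = y
    exact cyc_apply_other (Ne.symm ha.2) (Ne.symm hb.2.1) (fun e => hxy (hix.symm.trans e.symm))
  · refine Subgroup.mem_sup_left ⟨?_, h3.mem_alternatingGroup⟩
    show cyc a b i x = x
    exact cyc_apply_other (Ne.symm ha.1) (Ne.symm hb.1) (Ne.symm hix)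

theorem card_of_fixed {P : Subgroup (Perm Ω)} (hP : IsPGroup 3 P) (hU : UniqueOver P)
    (hPA : P ≤ alternatingGroup Ω) (h5 : 5 ≤ Fintype.card Ω) {x : Ω} (hx : ∀ g ∈ P, g x = x) :
    ∃ a : ℕ, 2 ≤ a ∧ Fintype.card Ω = 3 ^ a + 1 := by
  obtain ⟨y, hy⟩ : ∃ y, y ≠ x := Fintype.exists_ne_of_one_lt_card (by omega) x
  haveI : Fact (Nat.Prime 3) := ⟨Nat.prime_three⟩
  have hmoved : ∃ g ∈ P, g y ≠ y := by
    by_contra hc
    push Not at hc
    exact hy (fixed_unique hU hPA (by omega) hc hx)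
  obtain ⟨g, hg, hgy⟩ := hmoved
  have hxO : x ∉ orbit P y := by
    rintro ⟨h, hh⟩
    exact hy (h.1.injective (show h.1 y = h.1 x by rw [hx _ h.2]; exact hh))
  set s : Set Ω := insert x (orbit P y) with hs
  have hys : y ∈ s := Or.inr (mem_orbit_self y)
  have hgs : g y ∈ s := Or.inr ((smul_mem_orbit_iff_of_mem hg y y).2 (mem_orbit_self y))
  have hgx : g y ≠ x := fun e => hy (g.injective (e.trans (hx g hg).symm))
  have hall : ∀ z, z ∈ s := by
    by_contra hc
    push Not at hc
    obtain ⟨z, hz⟩ := hc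
    refine hU (stabilizer (Perm Ω) x ⊓ alternatingGroup Ω)
      (stabilizer (Perm Ω) s ⊓ alternatingGroup Ω)
      (fun h hh => ⟨hx h hh, hPA hh⟩) inf_le_right (not_alt_le_stab x (by omega))
      (fun h hh => ⟨mem_stabilizer_set.2 fun w => ?_, hPA hh⟩) inf_le_right
      (not_alt_le_setStab hys hgs (Ne.symm hgy) hz) ?_
    · rw [Perm.smul_def, hs, Set.mem_insert_iff, Set.mem_insert_iff, smul_mem_orbit_iff_of_mem hh]
      constructor <;> rintro (e | e)
      · exact Or.inl (h.injective (e.trans (hx h hh).symm))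
      · exact Or.inr e
      · exact Or.inl (by rw [e, hx h hh])
      · exact Or.inr e
    refine cyc_mem_of_edge _ (Ne.symm hgy) fun i hia hib => ?_
    by_cases hix : i = x
    · exact Subgroup.mem_sup_right
        (cyc_mem_setStab hys hgs (by rw [hix]; exact Or.inl rfl) (Ne.symm hgy) (Ne.symm hia)
          (Ne.symm hib))
    · refine Subgroup.mem_sup_left ⟨?_,
        (cyc_isThreeCycle (Ne.symm hgy) (Ne.symm hia) (Ne.symm hib)).mem_alternatingGroup⟩
      show cyc y (g y) i x = x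
      exact cyc_apply_other (Ne.symm hy) (Ne.symm hgx) (Ne.symm hix)
  obtain ⟨a, ha⟩ := hP.card_orbit y
  have hcard : Fintype.card Ω = 3 ^ a + 1 := by
    have h1 : s.ncard = Fintype.card Ω := by
      rw [Set.eq_univ_of_forall hall, Set.ncard_univ, Nat.card_eq_fintype_card]
    rw [hs, Set.ncard_insert_of_notMem hxO (Set.toFinite _), ← Nat.card_coe_set_eq, ha] at h1
    exact h1.symm
  refine ⟨a, ?_, hcard⟩
  by_contra hlt
  have : (3 : ℕ) ^ a ≤ 3 ^ 1 := Nat.pow_le_pow_right (by omega) (by omega)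
  omega

theorem exists_partition {k : ℕ} (hn : Fintype.card Ω = k * 3) {P : Subgroup (Perm Ω)}
    (hPc : Nat.card P = 3 ^ ((Fintype.card Ω).factorial.factorization 3)) :
    ∃ f : Ω → Fin k, (∀ i, Nat.card {x : Ω // f x = i} = 3) ∧ P ≤ partStab f := by
  haveI : Fact (Nat.Prime 3) := ⟨Nat.prime_three⟩
  let e : Ω ≃ Fin k × Fin 3 := (Fintype.equivFinOfCardEq hn).trans finProdFinEquiv.symm
  let f₀ : Ω → Fin k := fun x => (e x).1
  have hf₀ : ∀ i, Nat.card {x : Ω // f₀ x = i} = 3 := fun i => by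
    have e' : {x : Ω // f₀ x = i} ≃ Fin 3 :=
      (e.subtypeEquiv (fun x => Iff.rfl)).trans
        { toFun := fun z : {p : Fin k × Fin 3 // p.1 = i} => z.1.2
          invFun := fun j => ⟨(i, j), rfl⟩
          left_inv := fun z => Subtype.ext (Prod.ext z.2.symm rfl)
          right_inv := fun j => rfl }
    rw [Nat.card_congr e', Nat.card_fin]
  have hW : (Nat.card (partStab f₀)).factorization 3 = (Fintype.card Ω).factorial.factorization 3 := by
    rw [card_partStab hf₀ (by omega), hn, Nat.factorization_mul (by positivity)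
      (Nat.factorial_ne_zero k), Finsupp.add_apply, Nat.factorization_pow, Finsupp.smul_apply,
      Nat.factorization_def _ Nat.prime_three, Nat.factorization_def _ Nat.prime_three,
      Nat.factorization_def _ Nat.prime_three, mul_comm k 3, padicValNat_factorial_mul,
      show (3 : ℕ).factorial = 3 * 2 from rfl, padicValNat.mul (by omega) (by omega),
      padicValNat.self (by omega), padicValNat.eq_zero_of_not_dvd (by omega : ¬ 3 ∣ 2)]
    simp [add_comm]
  let Q : Sylow 3 (partStab f₀) := default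
  have hQ : Nat.card ((Q : Subgroup (partStab f₀)).map (partStab f₀).subtype) =
      3 ^ ((Fintype.card Ω).factorial.factorization 3) := by
    rw [Subgroup.card_map_of_injective (partStab f₀).subtype_injective, Q.card_eq_multiplicity, hW]
  have hperm : Nat.card (Perm Ω) = (Fintype.card Ω).factorial := by
    rw [Nat.card_perm, Nat.card_eq_fintype_card]
  obtain ⟨g, hg⟩ := MulAction.exists_smul_eq (Perm Ω)
    (Sylow.ofCard ((Q : Subgroup (partStab f₀)).map (partStab f₀).subtype) (by rw [hQ, hperm]))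
    (Sylow.ofCard P (by rw [hPc, hperm]))
  refine ⟨fun x => f₀ (g⁻¹ x), fun i => ?_, ?_⟩
  · rw [← hf₀ i]
    exact Nat.card_congr ((g⁻¹ : Perm Ω).subtypeEquiv (fun x => Iff.rfl))
  · intro h hh
    have hmem : h ∈ (MulAut.conj g) •
        ((Q : Subgroup (partStab f₀)).map (partStab f₀).subtype) := by
      have := congrArg (fun S : Sylow 3 (Perm Ω) => (S : Subgroup (Perm Ω))) hg
      simp only [Sylow.coe_ofCard] at this
      rw [← this] at hh
      exact hh
    rw [Subgroup.mem_pointwise_smul_iff_inv_smul_mem] at hmem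
    obtain ⟨q, -, hq⟩ := hmem
    have hq' : g⁻¹ * h * g ∈ partStab f₀ := by
      have h2 : (q : Perm Ω) = g⁻¹ * h * g := by simpa [MulAut.smul_def] using hq
      exact h2 ▸ q.2
    intro x y
    have := hq' (g⁻¹ x) (g⁻¹ y)
    simpa [Perm.mul_apply] using this

theorem not_three_dvd {P : Subgroup (Perm Ω)} (hP : IsPGroup 3 P) (hU : UniqueOver P)
    (hPA : P ≤ alternatingGroup Ω) {k : ℕ} (hk : 4 ≤ k) (hn : Fintype.card Ω = k * 3)
    (hnofix : ∀ x : Ω, ∃ g ∈ P, g x ≠ x)
    (hPc : Nat.card P = 3 ^ ((Fintype.card Ω).factorial.factorization 3)) : False := by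
  classical
  haveI : Fact (Nat.Prime 3) := ⟨Nat.prime_three⟩
  obtain ⟨f, hf, hPf⟩ := exists_partition hn hPc
  -- every proper overgroup preserves the partition
  have key : ∀ K : Subgroup (Perm Ω), P ≤ K → K ≤ alternatingGroup Ω → ¬ alternatingGroup Ω ≤ K →
      K ≤ partStab f := by
    intro K h1 h2 h3
    have hW : ¬ alternatingGroup Ω ≤ partStab f ⊓ alternatingGroup Ω := fun h =>
      partStab_ne_top hf (by omega) (by omega) (h.trans inf_le_left)
    have hJ := hU _ K (le_inf hPf hPA) inf_le_right hW h1 h2 h3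
    rcases (le_sup_left : partStab f ⊓ alternatingGroup Ω ≤
        (partStab f ⊓ alternatingGroup Ω) ⊔ K).eq_or_lt with h | h
    · exact (le_sup_right.trans h.ge).trans inf_le_left
    · exact absurd (eq_alt_of_partStab_lt (by omega) hf (by omega) (by omega) h
        (sup_le inf_le_right h2)).ge hJ
  have hpick : ∀ s : Finset Ω, 4 ≤ s.card → ∃ a ∈ s, ∃ b ∈ s, ∃ c ∈ s,
      a ≠ b ∧ a ≠ c ∧ b ≠ c ∧ f a ≠ f c := by
    intro s hs
    obtain ⟨a, ha⟩ : s.Nonempty := Finset.card_pos.1 (by omega)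
    have hfib : (Finset.univ.filter fun x => f x = f a).card = 3 := by
      rw [← Fintype.card_subtype, ← Nat.card_eq_fintype_card, hf]
    obtain ⟨c, hc, hca⟩ := Finset.exists_mem_notMem_of_card_lt_card
      (s := Finset.univ.filter fun x => f x = f a) (t := s) (by omega)
    have hca' : f c ≠ f a := fun e => hca (by simp [e])
    obtain ⟨b, hb, hbac⟩ := Finset.exists_mem_notMem_of_card_lt_card
      (s := {a, c}) (t := s) (lt_of_le_of_lt Finset.card_le_two (by omega))
    simp only [Finset.mem_insert, Finset.mem_singleton, not_or] at hbac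
    exact ⟨a, ha, b, hb, c, hc, Ne.symm hbac.1, fun e => hca' (by rw [e]), hbac.2, Ne.symm hca'⟩
  obtain ⟨x⟩ : Nonempty Ω := Fintype.card_pos_iff.1 (by omega)
  by_cases htr : ∀ y, y ∈ orbit P x
  · -- transitive: a second system of three blocks
    obtain ⟨a, ha⟩ := hP.card_orbit x
    have huniv : Nat.card (orbit P x) = Fintype.card Ω := by
      rw [Nat.card_coe_set_eq, Set.eq_univ_of_forall htr, Set.ncard_univ, Nat.card_eq_fintype_card]
    obtain ⟨m, hm⟩ := IsPGroup.iff_card.1 hP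
    obtain ⟨l, hl⟩ := IsPGroup.iff_card.1 (hP.to_subgroup (stabilizer P x))
    have hml : 3 ^ m = 3 ^ (l + a) := by
      rw [← hm, pow_add, ← hl, ← ha, Nat.card_coe_set_eq, ← index_stabilizer, Subgroup.card_mul_index]
    have hml' : m = l + a := Nat.pow_right_injective (le_refl 2 |>.trans (by omega)) hml
    have ha2 : 2 ≤ a := by
      by_contra hlt
      have : (3 : ℕ) ^ a ≤ 3 ^ 1 := Nat.pow_le_pow_right (by omega) (by omega)
      omega
    obtain ⟨H, hH, hle⟩ := Sylow.exists_subgroup_card_pow_prime_le 3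
      (n := l) (m := l + (a - 1)) (G := P)
      (by rw [hm, hml']; exact pow_dvd_pow 3 (by omega)) _ hl (by omega)
    have hHi : H.index = 3 := by
      have := H.card_mul_index
      rw [hH, hm, hml', show l + a = l + (a - 1) + 1 by omega, pow_succ] at this
      exact mul_left_cancel₀ (by positivity) this
    let eH : P ⧸ H ≃ Fin 3 := Finite.equivFinOfCardEq hHi
    choose t ht using htr
    have hwell : ∀ (h : P) (y : Ω), h • x = y → (QuotientGroup.mk h : P ⧸ H) = QuotientGroup.mk (t y) := by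
      intro h y hy
      refine QuotientGroup.eq.2 (hle ?_)
      rw [mem_stabilizer_iff, mul_smul, show t y • x = y from ht y, inv_smul_eq_iff, hy]
    let f' : Ω → Fin 3 := fun y => eH (QuotientGroup.mk (t y))
    have hPf' : P ≤ partStab f' := by
      intro g hg
      have hshift : ∀ y, f' (g y) = eH ((⟨g, hg⟩ : P) • (QuotientGroup.mk (t y) : P ⧸ H)) := fun y => by
        refine congrArg eH (hwell (⟨g, hg⟩ * t y) (g y) ?_).symm
        rw [mul_smul, show t y • x = y from ht y]
        rfl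
      intro u v
      rw [hshift, hshift]
      simp only [f', EmbeddingLike.apply_eq_iff_eq]
      exact ⟨fun h => congrArg _ h, fun h => MulAction.injective _ h⟩
    obtain ⟨i, -, hi⟩ := Finset.exists_lt_card_fiber_of_mul_lt_card_of_maps_to
      (s := (Finset.univ : Finset Ω)) (t := (Finset.univ : Finset (Fin 3))) (f := f') (n := 3)
      (fun _ _ => Finset.mem_univ _) (by simp; omega)
    obtain ⟨u, hu, v, hv, w, hw, huv, huw, hvw, hne⟩ := hpick _ (Nat.succ_le_of_lt hi)
    simp only [Finset.mem_filter, Finset.mem_univ, true_and] at hu hv hw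
    have hother : ∃ z, f' z ≠ i := by
      by_contra hc
      push Not at hc
      obtain ⟨j, hj⟩ : ∃ j : Fin 3, j ≠ i := exists_ne i
      obtain ⟨h, hh⟩ := QuotientGroup.mk_surjective (eH.symm j)
      refine hj ?_
      rw [← hc (h • x)]
      show j = eH _
      rw [← hwell h (h • x) rfl, hh, Equiv.apply_symm_apply]
    obtain ⟨z, hz⟩ := hother
    have huz : u ≠ z := fun e => hz (e ▸ hu)
    have hvz : v ≠ z := fun e => hz (e ▸ hv)
    refine cyc_not_mem_partStab hf huv huw hvw hne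
      (key (partStab f' ⊓ alternatingGroup Ω) (le_inf hPf' hPA) inf_le_right (fun h => ?_)
        ⟨?_, (cyc_isThreeCycle huv huw hvw).mem_alternatingGroup⟩)
    · have h1 := ((h (cyc_isThreeCycle huv huz hvz).mem_alternatingGroup).1 u v).1 (hu.trans hv.symm)
      rw [cyc_apply_fst huv huz, cyc_apply_snd huz hvz, hv] at h1
      exact hz h1.symm
    · exact mul_mem (swap_mem_partStab f' (hu.trans hv.symm))
        (swap_mem_partStab f' (hv.trans hw.symm))
  · push Not at htr
    obtain ⟨y, hy⟩ := htr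
    have hcomb : ∀ s : Set Ω, (∀ g ∈ P, ∀ z, g z ∈ s ↔ z ∈ s) → 4 ≤ s.ncard → ∀ z ∉ s, False := by
      intro s hs h4 z hz
      obtain ⟨u, hu, v, hv, w, hw, huv, huw, hvw, hne⟩ :=
        hpick s.toFinset (by rwa [← Set.ncard_eq_toFinset_card'])
      rw [Set.mem_toFinset] at hu hv hw
      exact cyc_not_mem_partStab hf huv huw hvw hne
        (key (stabilizer (Perm Ω) s ⊓ alternatingGroup Ω)
          (fun g hg => ⟨mem_stabilizer_set.2 fun z => by rw [Perm.smul_def]; exact hs g hg z, hPA hg⟩)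
          inf_le_right (not_alt_le_setStab hu hv huv hz) (cyc_mem_setStab hu hv hw huv huw hvw))
    have hinv : ∀ g ∈ P, ∀ z, g z ∈ orbit P x ↔ z ∈ orbit P x := fun g hg z =>
      smul_mem_orbit_iff_of_mem hg x z
    have hsum := Set.ncard_add_ncard_compl (orbit P x)
    rw [Nat.card_eq_fintype_card] at hsum
    rcases Nat.lt_or_ge (orbit P x).ncard 4 with h | h
    · exact hcomb (orbit P x)ᶜ (fun g hg z => not_congr (hinv g hg z)) (by omega) x
        (fun hx => hx (mem_orbit_self x))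
    · exact hcomb (orbit P x) hinv h y hy

theorem degree_cases {P : Subgroup (Perm Ω)} (hP : IsPGroup 3 P) (hU : UniqueOver P)
    (hPA : P ≤ alternatingGroup Ω) (h5 : 5 ≤ Fintype.card Ω)
    (hPc : Nat.card P = 3 ^ ((Fintype.card Ω).factorial.factorization 3)) :
    Fintype.card Ω = 6 ∨ Fintype.card Ω = 9 ∨ ∃ a : ℕ, 2 ≤ a ∧ Fintype.card Ω = 3 ^ a + 1 := by
  haveI : Fact (Nat.Prime 3) := ⟨Nat.prime_three⟩
  by_cases hfix : ∃ x : Ω, ∀ g ∈ P, g x = x
  · obtain ⟨x, hx⟩ := hfix
    exact Or.inr (Or.inr (card_of_fixed hP hU hPA h5 hx))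
  push Not at hfix
  obtain ⟨k, hk⟩ : 3 ∣ Fintype.card Ω := by
    have h := hP.card_modEq_card_fixedPoints Ω
    have h0 : Nat.card (fixedPoints P Ω) = 0 := by
      rw [Nat.card_eq_zero]
      refine Or.inl ⟨fun z => ?_⟩
      obtain ⟨g, hg, hgz⟩ := hfix z.1
      exact hgz (z.2 ⟨g, hg⟩)
    rw [h0, Nat.card_eq_fintype_card] at h
    exact (Nat.modEq_zero_iff_dvd).1 h
  rcases Nat.lt_or_ge k 4 with h | h
  · omega
  · exact (not_three_dvd hP hU hPA h (hk.trans (mul_comm 3 k)) hfix hPc).elim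

end CfsgLib.ThreeMinAlt
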