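import Cfsg.Agent.Lib.ThreeMinAlt.Basic
import Cfsg.Agent.Lib.FGStruct.AltOddAut
import Cfsg.Agent.Lib.Components.GenFitting
import Cfsg.Prelude.Def_LocalEven

/-!
3-minimal groups with alternating generalized Fitting subgroup.
-/

set_option autoImplicit false

open Equiv Equiv.Perm MulAction

namespace CfsgLib.ThreeMinAlt

variable {X : Type*} [Group X] [Finite X]

theorem genFitting_normal' : (Cfsg.generalizedFittingSubgroup X).Normal := inferInstance

/-- Every 3-element lies in an alternating generalized Fitting subgroup. -/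
theorem sylow_le {n : ℕ} (hn : 5 ≤ n)
    (e : ↥(Cfsg.generalizedFittingSubgroup X) ≃* ↥(alternatingGroup (Fin n))) (P : Sylow 3 X) :
    (P : Subgroup X) ≤ Cfsg.generalizedFittingSubgroup X := by
  haveI : Fact (Nat.Prime 3) := ⟨Nat.prime_three⟩
  set F := Cfsg.generalizedFittingSubgroup X with hFdef
  haveI : F.Normal := genFitting_normal'
  intro x hx
  obtain ⟨k, hk⟩ := P.isPGroup' ⟨x, hx⟩
  have hxk : x ^ 3 ^ k = 1 := congrArg Subtype.val hk
  let φ : X →* MulAut (alternatingGroup (Fin n)) :=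
    (MulAut.congr e).toMonoidHom.comp (MulAut.conjNormal (H := F))
  have hφk : φ x ^ 3 ^ k = 1 := by rw [← map_pow, hxk, map_one]
  have hodd : Odd (orderOf (φ x)) :=
    Odd.of_dvd_nat (Odd.pow (by decide)) (orderOf_dvd_of_pow_eq_one hφk)
  obtain ⟨σ, hσ⟩ := CfsgLib.FGStruct.exists_conjNormal_eq_of_odd (by omega) (φ x) hodd
  have hσk : σ ^ 3 ^ k = 1 :=
    CfsgLib.AltAut.conjNormal_injective (by rw [Fintype.card_fin]; omega)
      (by rw [map_pow, hσ, hφk, map_one])
  have heven : σ ∈ alternatingGroup (Fin n) := by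
    rw [mem_alternatingGroup]
    rcases Int.units_eq_one_or (sign σ) with h | h
    · exact h
    · have h2 := congrArg sign hσk
      rw [map_pow, h, map_one, Odd.neg_one_pow (Odd.pow (by decide))] at h2
      exact h.trans h2
  set f : F := e.symm ⟨σ, heven⟩ with hf
  have hc : x * (f : X)⁻¹ ∈ Subgroup.centralizer (F : Set X) := by
    rw [Subgroup.mem_centralizer_iff]
    intro y hy
    have key : ∀ g : F, MulAut.conjNormal x g = f * g * f⁻¹ := by
      intro g
      apply e.injective
      have h1 : φ x (e g) = e (MulAut.conjNormal x g) := by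
        simp [φ, MulAut.congr]
      rw [← h1, ← hσ]
      apply Subtype.ext
      simp [hf]
    have hkey := congrArg Subtype.val (key ((f⁻¹ : F) * ⟨y, hy⟩ * f))
    simp only [MulAut.conjNormal_apply, Subgroup.coe_mul, Subgroup.coe_inv] at hkey
    have h3 : x * ((f : X)⁻¹ * y * f) * x⁻¹ = y := by rw [hkey]; group
    calc y * (x * (f : X)⁻¹)
        = x * ((f : X)⁻¹ * y * f) * x⁻¹ * (x * (f : X)⁻¹) := by rw [h3]
      _ = x * (f : X)⁻¹ * y := by group
  have := CfsgLib.Components.centralizer_genFitting_le hc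
  have h4 := F.mul_mem this f.2
  rwa [inv_mul_cancel_right] at h4

theorem eq_top_of_pMinimal (hX : Cfsg.IsPMinimal 3 X) {F : Subgroup X} [F.Normal]
    (hle : ∀ P : Sylow 3 X, (P : Subgroup X) ≤ F) : F = ⊤ := by
  haveI : Fact (Nat.Prime 3) := ⟨Nat.prime_three⟩
  let P : Sylow 3 X := default
  obtain ⟨hnn, M, -, huniq⟩ := hX P
  by_contra hne
  have hN : Subgroup.normalizer ((P : Subgroup X) : Set X) ≠ ⊤ := fun h =>
    hnn (Subgroup.normalizer_eq_top_iff.1 h)
  obtain ⟨M₁, hM₁, h1⟩ := (eq_top_or_exists_le_coatom F).resolve_left hne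
  obtain ⟨M₂, hM₂, h2⟩ := (eq_top_or_exists_le_coatom _).resolve_left hN
  have e1 := huniq M₁ ⟨hM₁, (hle P).trans h1⟩
  have e2 := huniq M₂ ⟨hM₂, Subgroup.le_normalizer.trans h2⟩
  refine hM₁.1 (top_le_iff.1 ?_)
  rw [← Sylow.normalizer_sup_eq_top' P (hle P)]
  exact sup_le (h2.trans (e2.trans e1.symm).le) h1

theorem degree_of_equiv {n : ℕ} (hX : Cfsg.IsPMinimal 3 X) (hn : 5 ≤ n)
    (e : X ≃* ↥(alternatingGroup (Fin n))) :
    n = 6 ∨ n = 9 ∨ ∃ a : ℕ, 2 ≤ a ∧ n = 3 ^ a + 1 := by
  haveI : Fact (Nat.Prime 3) := ⟨Nat.prime_three⟩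
  let P : Sylow 3 X := default
  obtain ⟨-, M, ⟨hM, hPM⟩, huniq⟩ := hX P
  let j : X →* Perm (Fin n) := (alternatingGroup (Fin n)).subtype.comp e.toMonoidHom
  have hj : Function.Injective j := (Subgroup.subtype_injective _).comp e.injective
  have hrange : j.range = alternatingGroup (Fin n) := by
    ext g
    constructor
    · rintro ⟨y, rfl⟩; exact (e y).2
    · intro hg; exact ⟨e.symm ⟨g, hg⟩, by simp [j]⟩
  have hU : UniqueOver ((P : Subgroup X).map j) := by
    intro K L hPK hKA hK hPL hLA hL h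
    have hle : ∀ K : Subgroup (Perm (Fin n)), (P : Subgroup X).map j ≤ K →
        K ≤ alternatingGroup (Fin n) → ¬ alternatingGroup (Fin n) ≤ K → K ≤ M.map j := by
      intro K h1 h2 h3
      have hne : K.comap j ≠ ⊤ := fun ht => h3 (by
        rw [← hrange, MonoidHom.range_eq_map, ← ht]; exact Subgroup.map_comap_le j K)
      obtain ⟨M', hM', hle'⟩ := (eq_top_or_exists_le_coatom _).resolve_left hne
      have := huniq M' ⟨hM', (Subgroup.map_le_iff_le_comap.1 h1).trans hle'⟩
      subst this
      exact le_of_eq_of_le (Subgroup.map_comap_eq_self (f := j) (h2.trans hrange.ge)).symm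
        (Subgroup.map_mono hle')
    refine hM.1 (top_le_iff.1 ?_)
    have := h.trans (sup_le (hle K hPK hKA hK) (hle L hPL hLA hL))
    rw [← hrange, MonoidHom.range_eq_map] at this
    exact (Subgroup.map_le_map_iff_of_injective hj).1 this
  have hPA : (P : Subgroup X).map j ≤ alternatingGroup (Fin n) :=
    hrange ▸ Subgroup.map_le_range j _
  have hcard : Nat.card ((P : Subgroup X).map j) =
      3 ^ ((Fintype.card (Fin n)).factorial.factorization 3) := by
    rw [Subgroup.card_map_of_injective hj, P.card_eq_multiplicity]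
    haveI : Nontrivial (Fin n) := Fin.nontrivial_iff_two_le.2 (by omega)
    have h2 := two_mul_card_alternatingGroup (α := Fin n)
    rw [Fintype.card_perm, ← Nat.card_eq_fintype_card, ← Nat.card_congr e.toEquiv] at h2
    rw [← h2, Nat.factorization_mul (by omega) (Nat.card_pos).ne', Finsupp.add_apply,
      Nat.factorization_eq_zero_of_not_dvd (by omega : ¬ 3 ∣ 2), zero_add]
  have := degree_cases (P.isPGroup'.map j) hU hPA (by rw [Fintype.card_fin]; exact hn) hcard
  simpa only [Fintype.card_fin] using this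

end CfsgLib.ThreeMinAlt
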